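import Mathlib
import Cfsg.Prelude.Def_CaseTheorems
import Cfsg.Agent.Core.Fitting
import Cfsg.Agent.Core.PCore

/-!
Groups in which two distinct Sylow 2-subgroups always meet in a cyclic group.
-/

set_option autoImplicit false

namespace Cfsg.Agent.CyclicInter

open scoped Pointwise

theorem quotient {G : Type*} [Group G] [Finite G]
    (hC : ∀ S T : Sylow 2 G, S ≠ T → IsCyclic ↥((S : Subgroup G) ⊓ (T : Subgroup G)))
    (H : Subgroup G) [H.Normal] :
    ∀ S T : Sylow 2 (G ⧸ H), S ≠ T →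
      IsCyclic ↥((S : Subgroup (G ⧸ H)) ⊓ (T : Subgroup (G ⧸ H))) := by
  intro S T hST
  set π := QuotientGroup.mk' H
  have hπ : Function.Surjective π := QuotientGroup.mk'_surjective H
  have hlift : ∀ A : Sylow 2 (G ⧸ H), ∃ S' : Sylow 2 G, (S' : Subgroup G).map π = A := by
    intro A
    obtain ⟨S₀⟩ : Nonempty (Sylow 2 G) := inferInstance
    obtain ⟨x, hx⟩ := MulAction.exists_smul_eq (G ⧸ H) (S₀.mapSurjective hπ) A
    obtain ⟨g, rfl⟩ := hπ x
    refine ⟨g • S₀, ?_⟩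
    rw [← hx]
    ext y
    simp only [Sylow.coe_subgroup_smul, Sylow.coe_mapSurjective, Subgroup.mem_map,
      Subgroup.mem_smul_pointwise_iff_exists, MulAut.smul_def, MulAut.conj_apply]
    constructor
    · rintro ⟨_, ⟨s, hs, rfl⟩, rfl⟩
      exact ⟨π s, ⟨s, hs, rfl⟩, by simp⟩
    · rintro ⟨_, ⟨s, hs, rfl⟩, rfl⟩
      exact ⟨g * s * g⁻¹, ⟨s, hs, rfl⟩, by simp⟩
  obtain ⟨S', hS'⟩ := hlift S
  obtain ⟨T', hT'⟩ := hlift T
  set U : Subgroup G := (T : Subgroup (G ⧸ H)).comap π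
  have hTU : (T' : Subgroup G) ≤ U := Subgroup.map_le_iff_le_comap.mp hT'.le
  set R : Subgroup U := ((S' : Subgroup G) ⊓ U).subgroupOf U
  have hR : IsPGroup 2 R :=
    (S'.isPGroup'.to_le inf_le_left).of_equiv (Subgroup.subgroupOfEquivOfLe inf_le_right).symm
  obtain ⟨W, hW⟩ := hR.exists_le_sylow
  obtain ⟨u, hu⟩ := MulAction.exists_smul_eq U (T'.subtype hTU) W
  set T'' : Sylow 2 G := (u : G) • T'
  have hRT : (S' : Subgroup G) ⊓ U ≤ T'' := by
    intro x hx
    have h1 : (⟨x, hx.2⟩ : U) ∈ (W : Subgroup U) := hW hx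
    rw [← hu, Sylow.coe_subgroup_smul, Subgroup.mem_smul_pointwise_iff_exists] at h1
    obtain ⟨y, hy, hyx⟩ := h1
    rw [Sylow.coe_subgroup_smul, Subgroup.mem_smul_pointwise_iff_exists]
    exact ⟨y, hy, congrArg Subtype.val hyx⟩
  have hne : S' ≠ T'' := by
    intro h
    apply hST
    apply Sylow.ext
    have hle : (T'' : Subgroup G).map π ≤ T := by
      rintro _ ⟨x, hx, rfl⟩
      rw [SetLike.mem_coe, Sylow.coe_subgroup_smul, Subgroup.mem_smul_pointwise_iff_exists] at hx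
      obtain ⟨y, hy, rfl⟩ := hx
      simp only [MulAut.smul_def, MulAut.conj_apply, map_mul, map_inv]
      exact mul_mem (mul_mem u.2 (hTU hy)) (inv_mem u.2)
    rw [← h, hS'] at hle
    exact (S.is_maximal' T.isPGroup' hle).symm
  have hcyc := hC S' T'' hne
  have hle : ((S : Subgroup (G ⧸ H)) ⊓ T) ≤ ((S' : Subgroup G) ⊓ T'').map π := by
    intro x hx
    obtain ⟨s, hs, rfl⟩ : x ∈ (S' : Subgroup G).map π := hS'.symm ▸ hx.1
    exact ⟨s, ⟨hs, hRT ⟨hs, hx.2⟩⟩, rfl⟩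
  have h2 : IsCyclic ↥(((S' : Subgroup G) ⊓ T'').map π) :=
    isCyclic_of_surjective (π.subgroupMap _) (MonoidHom.subgroupMap_surjective _ _)
  exact Subgroup.isCyclic_of_le hle

theorem solvable {G : Type*} [Group G] [Finite G] (hs : Group.IsSolvable G)
    (hC : ∀ S T : Sylow 2 G, S ≠ T → IsCyclic ↥((S : Subgroup G) ⊓ (T : Subgroup G))) :
    ∃ P : Sylow 2 (G ⧸ Cfsg.oddCore G), (P : Subgroup (G ⧸ Cfsg.oddCore G)).Normal := by
  have hC' := quotient hC (Cfsg.oddCore G)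
  have hO : pPrimeCore 2 (G ⧸ Cfsg.oddCore G) = ⊥ := Core.pPrimeCore_quotient_eq_bot
  set Q := G ⧸ Cfsg.oddCore G
  have : Fact (Nat.Prime 2) := ⟨Nat.prime_two⟩
  obtain ⟨P⟩ : Nonempty (Sylow 2 Q) := inferInstance
  refine ⟨P, ?_⟩
  by_contra hP
  have hpg : ¬ IsPGroup 2 Q := fun h => hP (by
    have hP2 : (P : Subgroup Q) = ⊤ :=
      (P.is_maximal' (h.to_subgroup ⊤) le_top).symm
    rw [hP2]; infer_instance)
  apply hpg
  obtain ⟨g, hg⟩ : ∃ g : Q, g • P ≠ P := by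
    by_contra hc
    simp only [not_exists, not_not] at hc
    apply hP
    rw [← Subgroup.normalizer_eq_top_iff]
    exact eq_top_iff.mpr fun g _ => Sylow.smul_eq_iff_mem_normalizer.mp (hc g)
  have hFP : ∀ A : Sylow 2 Q, fittingSubgroup Q ≤ A := by
    intro A
    rw [Core.fittingSubgroup_eq_iSup_pCore]
    refine iSup_le fun q => ?_
    by_cases hq : (q : ℕ) = 2
    · rw [hq]; exact Core.pCore_le_sylow A
    · have : Fact (Nat.Prime q) := ⟨q.2⟩
      exact (Core.pCore_le_pPrimeCore (q := (q : ℕ)) (p := 2) hq).trans (hO ▸ bot_le)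
  have hF2 : IsPGroup 2 (fittingSubgroup Q) := P.isPGroup'.to_le (hFP P)
  have : IsCyclic ↥(fittingSubgroup Q) := by
    have := hC' (g • P) P hg
    exact Subgroup.isCyclic_of_le (le_inf (hFP (g • P)) (hFP P))
  obtain ⟨k, hk⟩ := IsPGroup.iff_card.mp hF2
  set φ : Q →* MulAut (fittingSubgroup Q) := MulAut.conjNormal
  have hker : φ.ker ≤ fittingSubgroup Q := by
    refine le_trans ?_ Core.centralizer_fittingSubgroup_le
    intro x hx
    rw [Subgroup.mem_centralizer_iff]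
    intro y hy
    have : φ x ⟨y, hy⟩ = ⟨y, hy⟩ := by rw [MonoidHom.mem_ker.mp hx]; rfl
    have h2 : x * y * x⁻¹ = y := congrArg Subtype.val this
    exact (mul_inv_eq_iff_eq_mul.mp h2).symm
  have hA : IsPGroup 2 (MulAut (fittingSubgroup Q)) := by
    rcases k with _ | k
    · refine IsPGroup.of_card (n := 0) ?_
      rw [IsCyclic.card_mulAut, hk]; rfl
    · refine IsPGroup.of_card (n := k) ?_
      rw [IsCyclic.card_mulAut, hk, Nat.totient_prime_pow_succ Nat.prime_two]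
      simp
  intro x
  obtain ⟨a, ha⟩ := hA (φ x)
  obtain ⟨b, hb⟩ := hF2 ⟨x ^ 2 ^ a, hker (MonoidHom.mem_ker.mpr (by rw [map_pow, ha]))⟩
  exact ⟨a + b, by rw [pow_add, pow_mul]; exact congrArg Subtype.val hb⟩

end Cfsg.Agent.CyclicInter
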