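import Mathlib

/-!
The presentation `Q8 ⋊ S3` of `GL(2,3)`: any two groups of order 48 generated by elements
satisfying these relations are isomorphic.
-/

set_option autoImplicit false

namespace Cfsg.Agent.CyclicInter

open Subgroup

variable {Q : Type*} [Group Q]

/-- The relations of `GL(2,3) = Q8 ⋊ S3`. -/
structure Rel (i c t : Q) : Prop where
  i4 : i ^ 4 = 1
  j2 : (c * i * c⁻¹) * (c * i * c⁻¹) = i * i
  ji : (c * i * c⁻¹) * i * (c * i * c⁻¹)⁻¹ = i⁻¹
  cj : c * (c * i * c⁻¹) * c⁻¹ = i * (c * i * c⁻¹)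
  c3 : c ^ 3 = 1
  t2 : t * t = 1
  tc : t * c * t⁻¹ = c⁻¹
  ti : t * i * t⁻¹ = i⁻¹

/-- The normal form. -/
def word (i c t : Q) (p : Fin 4 × Fin 2 × Fin 3 × Fin 2) : Q :=
  i ^ (p.1 : ℕ) * (c * i * c⁻¹) ^ (p.2.1 : ℕ) * c ^ (p.2.2.1 : ℕ) * t ^ (p.2.2.2 : ℕ)

theorem word_mem_closure (i c t : Q) (p : Fin 4 × Fin 2 × Fin 3 × Fin 2) :
    word i c t p ∈ closure ({i, c, t} : Set Q) := by
  have hi : i ∈ closure ({i, c, t} : Set Q) := subset_closure (by simp)
  have hc : c ∈ closure ({i, c, t} : Set Q) := subset_closure (by simp)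
  have ht : t ∈ closure ({i, c, t} : Set Q) := subset_closure (by simp)
  exact mul_mem (mul_mem (mul_mem (pow_mem hi _)
    (pow_mem (mul_mem (mul_mem hc hi) (inv_mem hc)) _)) (pow_mem hc _)) (pow_mem ht _)

theorem closure_subset_range [Finite Q] {i c t : Q} (h : Rel i c t) :
    (closure ({i, c, t} : Set Q) : Set Q) ⊆ Set.range (word i c t) := by
  obtain ⟨j, hj⟩ : ∃ j, j = c * i * c⁻¹ := ⟨_, rfl⟩
  have j2 : j * j = i * i := hj ▸ h.j2
  have ji : j * i * j⁻¹ = i⁻¹ := hj ▸ h.ji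
  have cj : c * j * c⁻¹ = i * j := hj ▸ h.cj
  have hci : c * i * c⁻¹ = j := hj.symm
  have cij : c * (i * j) * c⁻¹ = i := by
    have e : c * (i * j) * c⁻¹ = (c * i * c⁻¹) * (c * j * c⁻¹) := by group
    rw [e, hci, cj]
    calc j * (i * j) = j * i * j⁻¹ * (j * j) := by group
      _ = i⁻¹ * (i * i) := by rw [ji, j2]
      _ = i := by group
  let F : Set Q := {x | ∃ a b : ℕ, x = i ^ a * j ^ b}
  have ci : ∀ a : ℕ, i ^ a = i ^ (a % 4) := fun a => pow_eq_pow_mod a h.i4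
  have cc : ∀ e : ℕ, c ^ e = c ^ (e % 3) := fun e => pow_eq_pow_mod e h.c3
  have ct : ∀ f : ℕ, t ^ f = t ^ (f % 2) := fun f => pow_eq_pow_mod f (by rw [pow_two, h.t2])
  have hjpow : ∀ b : ℕ, j ^ b = i ^ (2 * (b / 2)) * j ^ (b % 2) := fun b => by
    conv_lhs => rw [← Nat.div_add_mod b 2, pow_add, pow_mul, pow_two, j2, ← pow_two, ← pow_mul]
  have hFi : ∀ x ∈ F, i * x ∈ F := by
    rintro _ ⟨a, b, rfl⟩
    exact ⟨a + 1, b, by rw [pow_succ', mul_assoc]⟩
  have hFj : ∀ x ∈ F, j * x ∈ F := by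
    rintro _ ⟨a, b, rfl⟩
    have hinv : i⁻¹ = i ^ 3 := inv_eq_of_mul_eq_one_right (by rw [← pow_succ']; exact h.i4)
    refine ⟨3 * a, b + 1, ?_⟩
    have : j * i ^ a * j⁻¹ = i ^ (3 * a) := by
      rw [← conj_pow, ji, hinv, ← pow_mul]
    rw [← this, pow_succ']
    group
  have hFipow : ∀ (a : ℕ) x, x ∈ F → i ^ a * x ∈ F := fun a => by
    induction a with
    | zero => intro x hx; simpa using hx
    | succ a ih => intro x hx; rw [pow_succ', mul_assoc]; exact hFi _ (ih x hx)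
  have hFjpow : ∀ (a : ℕ) x, x ∈ F → j ^ a * x ∈ F := fun a => by
    induction a with
    | zero => intro x hx; simpa using hx
    | succ a ih => intro x hx; rw [pow_succ', mul_assoc]; exact hFj _ (ih x hx)
  have hFij : ∀ (a : ℕ) x, x ∈ F → (i * j) ^ a * x ∈ F := fun a => by
    induction a with
    | zero => intro x hx; simpa using hx
    | succ a ih =>
      intro x hx
      rw [pow_succ', mul_assoc, mul_assoc]
      exact hFi _ (hFj _ (ih x hx))
  have one_F : (1 : Q) ∈ F := ⟨0, 0, by simp⟩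
  let S : Set Q := {x | ∃ u ∈ F, ∃ e f : ℕ, x = u * c ^ e * t ^ f}
  have hSi : ∀ x ∈ S, i * x ∈ S := by
    rintro _ ⟨u, hu, e, f, rfl⟩
    exact ⟨i * u, hFi u hu, e, f, by simp only [mul_assoc]⟩
  have hSc : ∀ x ∈ S, c * x ∈ S := by
    rintro _ ⟨_, ⟨a, b, rfl⟩, e, f, rfl⟩
    refine ⟨j ^ a * ((i * j) ^ b * 1), hFjpow a _ (hFij b _ one_F), e + 1, f, ?_⟩
    have e1 : c * i ^ a * c⁻¹ = j ^ a := by rw [← conj_pow, hci]
    have e2 : c * j ^ b * c⁻¹ = (i * j) ^ b := by rw [← conj_pow, cj]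
    rw [← e1, ← e2, pow_succ']
    group
  have hSt : ∀ x ∈ S, t * x ∈ S := by
    rintro _ ⟨_, ⟨a, b, rfl⟩, e, f, rfl⟩
    have hinv : i⁻¹ = i ^ 3 := inv_eq_of_mul_eq_one_right (by rw [← pow_succ']; exact h.i4)
    have hcinv : c⁻¹ = c ^ 2 := inv_eq_of_mul_eq_one_right (by rw [← pow_succ']; exact h.c3)
    have etj : t * j * t⁻¹ = (i * j)⁻¹ := by
      rw [hj]
      calc t * (c * i * c⁻¹) * t⁻¹
          = (t * c * t⁻¹) * (t * i * t⁻¹) * (t * c * t⁻¹)⁻¹ := by group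
        _ = c⁻¹ * i⁻¹ * c := by rw [h.tc, h.ti, inv_inv]
        _ = (c⁻¹ * i * c)⁻¹ := by group
        _ = (i * (c * i * c⁻¹))⁻¹ := by
          congr 1
          rw [hci]
          calc c⁻¹ * i * c = c⁻¹ * (c * (i * j) * c⁻¹) * c := by rw [cij]
            _ = i * j := by group
    obtain ⟨m, hm⟩ : ∃ m, (i * j)⁻¹ = (i * j) ^ m := by
      obtain ⟨n, hn, hn1⟩ := isOfFinOrder_iff_pow_eq_one.mp (isOfFinOrder_of_finite (i * j))
      obtain ⟨k, rfl⟩ := Nat.exists_eq_succ_of_ne_zero (by omega : n ≠ 0)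
      exact ⟨k, inv_eq_of_mul_eq_one_right (by rw [← pow_succ']; exact hn1)⟩
    refine ⟨i ^ (3 * a) * ((i * j) ^ (m * b) * 1), hFipow _ _ (hFij _ _ one_F), 2 * e, f + 1, ?_⟩
    have e1 : t * i ^ a * t⁻¹ = i ^ (3 * a) := by
      rw [← conj_pow, h.ti, hinv, ← pow_mul]
    have e2 : t * j ^ b * t⁻¹ = (i * j) ^ (m * b) := by rw [← conj_pow, etj, hm, ← pow_mul]
    have e3 : t * c ^ e * t⁻¹ = c ^ (2 * e) := by rw [← conj_pow, h.tc, hcinv, ← pow_mul]
    rw [← e1, ← e2, ← e3, pow_succ']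
    group
  intro x hx
  have hfin : (closure ({i, c, t} : Set Q)).toSubmonoid = Submonoid.closure {i, c, t} :=
    Subgroup.closure_toSubmonoid_of_finite
  have hx' : x ∈ Submonoid.closure ({i, c, t} : Set Q) := hfin ▸ hx
  have hxS : x ∈ S := by
    clear hx
    induction hx' using Submonoid.closure_induction_left with
    | one => exact ⟨1, one_F, 0, 0, by simp⟩
    | mul_left y hy z _ ih =>
      rcases hy with rfl | rfl | rfl
      · exact hSi z ih
      · exact hSc z ih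
      · exact hSt z ih
  obtain ⟨_, ⟨a, b, rfl⟩, e, f, rfl⟩ := hxS
  refine ⟨(⟨(a + 2 * (b / 2)) % 4, Nat.mod_lt _ (by norm_num)⟩, ⟨b % 2, Nat.mod_lt _ two_pos⟩,
    ⟨e % 3, Nat.mod_lt _ (by norm_num)⟩, ⟨f % 2, Nat.mod_lt _ two_pos⟩), ?_⟩
  simp only [word]
  rw [← hj, ← ci, ← cc, ← ct, hjpow b, pow_add]
  simp only [mul_assoc]

theorem card_closure_le [Finite Q] {i c t : Q} (h : Rel i c t) :
    Nat.card (closure ({i, c, t} : Set Q)) ≤ 48 := by
  calc Nat.card (closure ({i, c, t} : Set Q))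
      = (closure ({i, c, t} : Set Q) : Set Q).ncard := Nat.card_coe_set_eq _
    _ ≤ (Set.range (word i c t)).ncard := Set.ncard_le_ncard (closure_subset_range h)
    _ ≤ Nat.card (Fin 4 × Fin 2 × Fin 3 × Fin 2) := by
      rw [← Set.image_univ, ← Set.ncard_univ]
      exact Set.ncard_image_le Set.finite_univ
    _ = 48 := by simp

theorem exists_mulEquiv {R : Type*} [Group R] [Finite Q] [Finite R] {i c t : Q} {i' c' t' : R}
    (h : Rel i c t) (h' : Rel i' c' t') (hQ : Nat.card Q = 48) (hR : Nat.card R = 48)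
    (hg : closure ({i, c, t} : Set Q) = ⊤) (hg' : closure ({i', c', t'} : Set R) = ⊤) :
    Nonempty (Q ≃* R) := by
  have hp : Rel ((i, i') : Q × R) (c, c') (t, t') := by
    constructor <;> refine Prod.ext ?_ ?_
    exacts [h.i4, h'.i4, h.j2, h'.j2, h.ji, h'.ji, h.cj, h'.cj, h.c3, h'.c3, h.t2, h'.t2,
      h.tc, h'.tc, h.ti, h'.ti]
  obtain ⟨S, hS⟩ : ∃ S, S = closure ({(i, i'), (c, c'), (t, t')} : Set (Q × R)) := ⟨_, rfl⟩
  have hle : Nat.card S ≤ 48 := hS ▸ card_closure_le hp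
  let f : S →* Q := (MonoidHom.fst Q R).comp S.subtype
  let g : S →* R := (MonoidHom.snd Q R).comp S.subtype
  have hf : Function.Surjective f := by
    rw [← MonoidHom.range_eq_top, eq_top_iff, ← hg, closure_le]
    have hm : ∀ p ∈ ({(i, i'), (c, c'), (t, t')} : Set (Q × R)), p.1 ∈ f.range :=
      fun p hp => ⟨⟨p, hS ▸ subset_closure hp⟩, rfl⟩
    rintro x (rfl | rfl | rfl)
    exacts [hm (_, i') (by simp), hm (_, c') (by simp), hm (_, t') (by simp)]
  have hg1 : Function.Surjective g := by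
    rw [← MonoidHom.range_eq_top, eq_top_iff, ← hg', closure_le]
    have hm : ∀ p ∈ ({(i, i'), (c, c'), (t, t')} : Set (Q × R)), p.2 ∈ g.range :=
      fun p hp => ⟨⟨p, hS ▸ subset_closure hp⟩, rfl⟩
    rintro x (rfl | rfl | rfl)
    exacts [hm (i, _) (by simp), hm (c, _) (by simp), hm (t, _) (by simp)]
  have hc : Nat.card S = 48 :=
    le_antisymm hle (hQ ▸ Nat.card_le_card_of_surjective f hf)
  have hfb : Function.Bijective f :=
    (Nat.bijective_iff_surjective_and_card f).mpr ⟨hf, by rw [hc, hQ]⟩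
  have hgb : Function.Bijective g :=
    (Nat.bijective_iff_surjective_and_card g).mpr ⟨hg1, by rw [hc, hR]⟩
  exact ⟨(MulEquiv.ofBijective f hfb).symm.trans (MulEquiv.ofBijective g hgb)⟩

/-- Generators of `GL(2,3)` satisfying the relations. -/
def gi : GL (Fin 2) (ZMod 3) := ⟨!![0, 1; 2, 0], !![0, 2; 1, 0], by decide, by decide⟩
/-- Generators of `GL(2,3)` satisfying the relations. -/
def gc : GL (Fin 2) (ZMod 3) := ⟨!![0, 1; 2, 2], !![2, 2; 1, 0], by decide, by decide⟩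
/-- Generators of `GL(2,3)` satisfying the relations. -/
def gt : GL (Fin 2) (ZMod 3) := ⟨!![0, 1; 1, 0], !![0, 1; 1, 0], by decide, by decide⟩

theorem gl_rel : Rel gi gc gt := by constructor <;> decide +kernel

theorem gl_card : Nat.card (GL (Fin 2) (ZMod 3)) = 48 := by
  rw [Matrix.card_GL_field]; simp [Fin.prod_univ_two]

theorem gl_closure : Subgroup.closure ({gi, gc, gt} : Set (GL (Fin 2) (ZMod 3))) = ⊤ := by
  classical
  have hinj : Function.Injective (word gi gc gt) := by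
    have h : (Finset.univ.image
        (fun p => ((word gi gc gt p : GL (Fin 2) (ZMod 3)) : Matrix (Fin 2) (Fin 2) (ZMod 3)))).card
        = (Finset.univ : Finset (Fin 4 × Fin 2 × Fin 3 × Fin 2)).card := by decide +kernel
    intro p q hpq
    exact Finset.card_image_iff.mp h (Finset.mem_coe.mpr (Finset.mem_univ p))
      (Finset.mem_coe.mpr (Finset.mem_univ q)) (congrArg Units.val hpq)
  apply Subgroup.eq_top_of_le_card
  rw [gl_card]
  calc 48 = (Set.range (word gi gc gt)).ncard := by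
        rw [← Nat.card_coe_set_eq, Nat.card_range_of_injective hinj]; simp
    _ ≤ (Subgroup.closure ({gi, gc, gt} : Set (GL (Fin 2) (ZMod 3))) : Set (GL (Fin 2) (ZMod 3))).ncard :=
        Set.ncard_le_ncard (by rintro _ ⟨p, rfl⟩; exact word_mem_closure _ _ _ p)
    _ = _ := (Nat.card_coe_set_eq _).symm

theorem mulEquiv_gl [Finite Q] {i c t : Q} (h : Rel i c t) (hQ : Nat.card Q = 48)
    (hg : Subgroup.closure ({i, c, t} : Set Q) = ⊤) : Nonempty (Q ≃* GL (Fin 2) (ZMod 3)) :=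
  exists_mulEquiv h gl_rel hQ gl_card hg gl_closure

end Cfsg.Agent.CyclicInter
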