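import Mathlib
import Cfsg.Prelude.Def_CaseTheorems
import Cfsg.Agent.Core.Fitting
import Cfsg.Agent.Core.PCore
import Cfsg.Agent.Fusion.UniqueInvolution
import Cfsg.Agent.S3742
import Cfsg.Agent.CyclicInter.Relations

/-!
Solvable groups in which two distinct Sylow 2-subgroups always meet in a group of 2-rank one.
-/

set_option autoImplicit false

namespace Cfsg.Agent.CyclicInter

open scoped Pointwise
open QuaternionGroup

theorem quat_aut_two_group (k : ℕ) (hk : 2 ≤ k) : IsPGroup 2 (MulAut (QuaternionGroup (2 ^ k))) := by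
  obtain ⟨N, hN⟩ : ∃ N, N = 2 ^ k := ⟨_, rfl⟩
  rw [← hN]
  have hN4 : 4 ≤ N := hN ▸ (by calc 4 = 2 ^ 2 := rfl
                                    _ ≤ 2 ^ k := Nat.pow_le_pow_right two_pos hk)
  have : NeZero N := ⟨by omega⟩
  have key : ∀ (β : MulAut (QuaternionGroup N)) (n : ℕ), Odd n → β ^ n = 1 → β = 1 := by
    intro β n hn hβ
    obtain ⟨r, hr⟩ : ∃ r, β (a 1) = a r := by
      rcases hx : β (a 1) with r | s
      · exact ⟨r, rfl⟩
      · exfalso
        have h1 := MulEquiv.orderOf_eq β (a 1 : QuaternionGroup N)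
        rw [hx, orderOf_xa, orderOf_a_one] at h1
        omega
    have hpow : ∀ m : ℕ, (a 1 : QuaternionGroup N) ^ m = a (m : ZMod (2 * N)) := a_one_pow
    have hlin : ∀ i : ZMod (2 * N), β (a i) = a (i * r) := by
      intro i
      obtain ⟨m, rfl⟩ : ∃ m : ℕ, (m : ZMod (2 * N)) = i := ⟨i.val, ZMod.natCast_zmod_val i⟩
      rw [← hpow, map_pow, hr]
      induction m with
      | zero => rw [pow_zero, Nat.cast_zero, zero_mul]; rfl
      | succ m ih => rw [pow_succ, ih, a_mul_a, Nat.cast_succ, add_mul, one_mul]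
    have hiter : ∀ m : ℕ, ∀ i : ZMod (2 * N), (β ^ m) (a i) = a (i * r ^ m) := by
      intro m
      induction m with
      | zero => intro i; simp
      | succ m ih => intro i; rw [pow_succ, MulAut.mul_apply, hlin, ih, pow_succ, mul_assoc, mul_comm r]
    have hrn : r ^ n = 1 := by
      have h := hiter n 1
      rw [hβ, MulAut.one_apply, one_mul] at h
      injection h with h; exact h.symm
    have hr1 : r = 1 := by
      have hu : IsUnit r := IsUnit.of_pow_eq_one hrn (by rintro rfl; simp at hn)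
      obtain ⟨u, rfl⟩ := hu
      have h1 : u ^ n = 1 := Units.ext (by simpa using hrn)
      have h2 : u ^ (2 ^ k) = 1 := by
        have h5 := ZMod.pow_totient u
        have e : Nat.totient (2 * N) = 2 ^ k := by
          rw [hN, ← pow_succ', Nat.totient_prime_pow_succ Nat.prime_two]; simp
        rwa [e] at h5
      have h3 := pow_gcd_eq_one.mpr ⟨h1, h2⟩
      have h4 : Nat.gcd n (2 ^ k) = 1 :=
        Nat.Coprime.pow_right k (Nat.coprime_two_right.mpr hn)
      rw [h4, pow_one] at h3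
      rw [h3]; rfl
    obtain ⟨s, hs⟩ : ∃ s, β (xa 0) = xa s := by
      rcases hx : β (xa 0) with s | s
      · exfalso
        have : β (a s) = a s := by rw [hlin, hr1, mul_one]
        have := β.injective (this.trans hx.symm)
        exact absurd this (by simp)
      · exact ⟨s, rfl⟩
    have hxa : ∀ i, β (xa i) = xa (s + i) := fun i => by
      have : (xa i : QuaternionGroup N) = xa 0 * a i := by rw [xa_mul_a, zero_add]
      rw [this, map_mul, hlin, hr1, mul_one, hs, xa_mul_a]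
    have hxm : ∀ m : ℕ, (β ^ m) (xa 0) = xa ((m : ZMod (2 * N)) * s) := by
      intro m
      induction m with
      | zero => simp
      | succ m ih =>
        rw [pow_succ', MulAut.mul_apply, ih, hxa, Nat.cast_succ]; congr 1; ring
    have hs0 : s = 0 := by
      have h := hxm n
      rw [hβ, MulAut.one_apply] at h
      injection h with h
      have hu : IsUnit (n : ZMod (2 * N)) := by
        refine (ZMod.isUnit_iff_coprime _ _).mpr ?_
        rw [hN, ← pow_succ']
        exact Nat.Coprime.pow_right _ (Nat.coprime_two_right.mpr hn)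
      exact (hu.mul_right_eq_zero).mp h.symm
    apply MulEquiv.ext
    rintro (i | i)
    · rw [hlin, hr1, mul_one]; rfl
    · rw [hxa, hs0, zero_add]; rfl
  intro x
  have hfin : Finite (MulAut (QuaternionGroup N)) := Finite.of_injective _ MulEquiv.toEquiv_injective
  obtain ⟨e, n, hn2, hn⟩ := Nat.exists_eq_two_pow_mul_odd (orderOf_pos x).ne'
  exact ⟨e, key _ n hn2 (by rw [← pow_mul, ← hn, pow_orderOf_eq_one])⟩

theorem quat_two_facts :
    (∀ x : QuaternionGroup 2, x * x ≠ 1 → x ^ 4 = 1) ∧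
    (∀ x y : QuaternionGroup 2, x * x ≠ 1 → y * y ≠ 1 → y ≠ x → y ≠ x⁻¹ →
      y * y = x * x ∧ y * x * y⁻¹ = x⁻¹) ∧
    (∀ x y : QuaternionGroup 2, x * x = 1 → x * y = y * x) ∧
    (∀ x : QuaternionGroup 2, (∀ y, x * y = y * x) → x * x = 1) ∧
    ((Finset.univ : Finset (QuaternionGroup 2)).filter (fun x => x * x = 1)).card = 2 := by
  refine ⟨?_, ?_, ?_, ?_, ?_⟩ <;> decide +kernel

theorem perm_four_facts :
    (∀ x : Equiv.Perm (Fin 4), (∀ g : Equiv.Perm (Fin 4), x * (g * x * g⁻¹) = g * x * g⁻¹ * x) →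
      x = 1 ∨ x = c[(0 : Fin 4), 1] * c[(2 : Fin 4), 3] ∨ x = c[(0 : Fin 4), 2] * c[(1 : Fin 4), 3] ∨
        x = c[(0 : Fin 4), 3] * c[(1 : Fin 4), 2]) ∧
    (∀ x : Equiv.Perm (Fin 4), x * x = 1 → x = 1 ∨ x = c[(0 : Fin 4), 1] * c[(2 : Fin 4), 3] ∨
      x = c[(0 : Fin 4), 2] * c[(1 : Fin 4), 3] ∨ x = c[(0 : Fin 4), 3] * c[(1 : Fin 4), 2] ∨
      ∃ g : Equiv.Perm (Fin 4), g * x * g⁻¹ = c[(0 : Fin 4), 1]) := by
  refine ⟨?_, ?_⟩ <;> decide +kernel

theorem perm_four_rel :
    ∀ A C T : Equiv.Perm (Fin 4), A = c[(0 : Fin 4), 1] * c[(2 : Fin 4), 3] →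
      C = c[(0 : Fin 4), 1, 2] → T = c[(0 : Fin 4), 1] →
    C ^ 3 = 1 ∧ C ≠ 1 ∧ A * A = 1 ∧ A ≠ 1 ∧ T * T = 1 ∧ T ≠ 1 ∧ T * C * T⁻¹ = C⁻¹ ∧ T * A * T⁻¹ = A ∧
      C * A * C⁻¹ ≠ 1 ∧ C * A * C⁻¹ ≠ A ∧ C * (C * A * C⁻¹) * C⁻¹ = A * (C * A * C⁻¹) ∧
      T ≠ A ∧ T ≠ C * A * C⁻¹ ∧ T ≠ A * (C * A * C⁻¹) := by
  rintro A C T rfl rfl rfl
  decide +kernel

variable {Q : Type*} [Group Q] [Finite Q]

/-- A group of order 48 with a self-centralising normal quaternion subgroup. -/
theorem quat_core (F : Subgroup Q) [F.Normal] (e : F ≃* QuaternionGroup 2)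
    (hC : Subgroup.centralizer (F : Set Q) ≤ F) (hQ : Nat.card Q = 48) :
    Nonempty (Q ≃* GL (Fin 2) (ZMod 3)) ∨
    (Nat.card Q = 48 ∧ Nat.card ↥(Subgroup.center Q) = 2 ∧
      Nonempty (Q ⧸ Subgroup.center Q ≃* Equiv.Perm (Fin 4)) ∧
      ∀ P : Sylow 2 Q, Nonempty (↥(P : Subgroup Q) ≃* QuaternionGroup 4)) ∧
    (∀ v : Q, orderOf v = 2 → v ∈ F) := by
  classical
  obtain ⟨q4, qinv, qcomm, qcen, qcard⟩ := quat_two_facts
  have pull : ∀ x y : Q, ∀ hx : x ∈ F, ∀ hy : y ∈ F, (e ⟨x, hx⟩ = e ⟨y, hy⟩ ↔ x = y) :=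
    fun x y hx hy => by rw [e.injective.eq_iff, Subtype.mk_eq_mk]
  have emul : ∀ x y : Q, ∀ hx : x ∈ F, ∀ hy : y ∈ F,
      e ⟨x * y, mul_mem hx hy⟩ = e ⟨x, hx⟩ * e ⟨y, hy⟩ := fun x y hx hy => by
    rw [← map_mul]; rfl
  have eone : e ⟨1, F.one_mem⟩ = 1 := map_one e
  have einv : ∀ x : Q, ∀ hx : x ∈ F, e ⟨x⁻¹, inv_mem hx⟩ = (e ⟨x, hx⟩)⁻¹ := fun x hx => by
    rw [← map_inv]; rfl
  have sq1 : ∀ x ∈ F, x * x = 1 → ∀ y ∈ F, x * y = y * x := by
    intro x hx h y hy
    rw [← pull _ _ (mul_mem hx hy) (mul_mem hy hx), emul _ _ hx hy, emul _ _ hy hx]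
    apply qcomm
    rw [← emul _ _ hx hx, ← eone, pull]; exact h
  obtain ⟨φ4⟩ := Cfsg.Agent.S3742.result
  let φ : Q →* Equiv.Perm (Fin 4) :=
    (φ4.toMonoidHom.comp (MulAut.congr e).toMonoidHom).comp (MulAut.conjNormal (H := F))
  have hker : ∀ x : Q, φ x = 1 ↔ x ∈ F ∧ x * x = 1 := by
    intro x
    have h0 : φ x = 1 ↔ MulAut.conjNormal (H := F) x = 1 := by
      constructor
      · intro h
        exact (MulAut.congr e).injective (φ4.injective (by rw [map_one, map_one]; exact h))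
      · intro h
        simp only [φ, MonoidHom.coe_comp, Function.comp_apply, h, map_one]
    rw [h0]
    constructor
    · intro h
      have hc : ∀ y ∈ F, x * y * x⁻¹ = y := fun y hy => by
        have := congrArg (fun f : MulAut F => ((f ⟨y, hy⟩ : F) : Q)) h
        simpa using this
      have hxF : x ∈ F := hC (Subgroup.mem_centralizer_iff.mpr fun y hy =>
        (mul_inv_eq_iff_eq_mul.mp (hc y hy)).symm)
      refine ⟨hxF, ?_⟩
      rw [← pull _ _ (mul_mem hxF hxF) F.one_mem, emul _ _ hxF hxF, eone]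
      apply qcen
      intro y
      obtain ⟨⟨w, hw⟩, rfl⟩ := e.surjective y
      rw [← emul _ _ hxF hw, ← emul _ _ hw hxF, pull]
      exact mul_inv_eq_iff_eq_mul.mp (hc w hw)
    · rintro ⟨hx, h⟩
      apply MulEquiv.ext
      rintro ⟨y, hy⟩
      apply Subtype.ext
      simp only [MulAut.conjNormal_apply, MulAut.one_apply]
      rw [sq1 x hx h y hy, mul_inv_cancel_right]
  have hZ : Nat.card φ.ker = 2 := by
    have e1 : φ.ker ≃ {x : QuaternionGroup 2 // x * x = 1} :=
      { toFun := fun x => ⟨e ⟨x.1, ((hker x.1).mp x.2).1⟩, by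
          rw [← emul _ _ _ _, ← eone, pull]; exact ((hker x.1).mp x.2).2⟩
        invFun := fun y => ⟨(e.symm y.1).1, (hker _).mpr ⟨(e.symm y.1).2, by
          have h := congrArg (fun q => ((e.symm q : F) : Q)) y.2
          simpa using h⟩⟩
        left_inv := fun x => by simp
        right_inv := fun y => by simp }
    rw [Nat.card_congr e1, Nat.card_eq_fintype_card, Fintype.card_subtype, qcard]
  have hsur : Function.Surjective φ := by
    rw [← MonoidHom.range_eq_top]
    apply Subgroup.eq_top_of_card_eq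
    have h1 := Subgroup.card_eq_card_quotient_mul_card_subgroup φ.ker
    rw [hQ, hZ, Nat.card_congr (QuotientGroup.quotientKerEquivRange φ).toEquiv] at h1
    rw [Nat.card_perm, Nat.card_fin]
    rw [show Nat.factorial 4 = 24 from rfl]
    omega
  have hF8 : Nat.card F = 8 := by
    rw [Nat.card_congr e.toEquiv, Nat.card_eq_fintype_card, QuaternionGroup.card]
  obtain ⟨pV, pT⟩ := perm_four_facts
  have hV : ∀ x : Equiv.Perm (Fin 4), x ∈ F.map φ → x = 1 ∨ x = c[(0 : Fin 4), 1] * c[(2 : Fin 4), 3]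
      ∨ x = c[(0 : Fin 4), 2] * c[(1 : Fin 4), 3] ∨ x = c[(0 : Fin 4), 3] * c[(1 : Fin 4), 2] := by
    intro x hx
    apply pV
    intro g
    obtain ⟨y, hy, rfl⟩ := hx
    obtain ⟨u, rfl⟩ := hsur g
    simp only [← map_inv, ← map_mul]
    have hy' : u * y * u⁻¹ ∈ F := Subgroup.Normal.conj_mem inferInstance y hy u
    -- the commutator of two elements of `F` squares to one and lies in `F`
    have hk : φ ((y * (u * y * u⁻¹)) * ((u * y * u⁻¹) * y)⁻¹) = 1 := by
      rw [hker]
      refine ⟨mul_mem (mul_mem hy hy') (inv_mem (mul_mem hy' hy)), ?_⟩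
      have hh : ∀ A B : QuaternionGroup 2, (A * B * (B * A)⁻¹) * (A * B * (B * A)⁻¹) = 1 := by
        decide +kernel
      have hF : ∀ a b : F, (a * b * (b * a)⁻¹) * (a * b * (b * a)⁻¹) = 1 := fun a b => by
        apply e.injective
        simp only [map_mul, map_inv, map_one]
        exact hh _ _
      exact congrArg Subtype.val (hF ⟨y, hy⟩ ⟨_, hy'⟩)
    rwa [map_mul, map_inv, mul_inv_eq_one] at hk
  have hmap4 : Nat.card (F.map φ) = 4 := by
    have hkF : φ.ker ≤ F := fun x hx => ((hker x).mp hx).1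
    have h1 := Subgroup.index_map_eq F hsur hkF
    have h2 := Subgroup.card_mul_index F
    have h3 := Subgroup.card_mul_index (F.map φ)
    rw [hF8, hQ] at h2
    have h24 : Nat.card (Equiv.Perm (Fin 4)) = 24 := by simp [Nat.card_perm]; rfl
    rw [h24, h1, show F.index = 6 by omega] at h3
    omega
  obtain ⟨A, hA⟩ : ∃ A, A = c[(0 : Fin 4), 1] * c[(2 : Fin 4), 3] := ⟨_, rfl⟩
  obtain ⟨C, hCe⟩ : ∃ C, C = c[(0 : Fin 4), 1, 2] := ⟨_, rfl⟩
  obtain ⟨T, hT⟩ : ∃ T, T = c[(0 : Fin 4), 1] := ⟨_, rfl⟩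
  obtain ⟨pC3, pC, pA2, pA, pT2, pT1, pTC, pTA, pJ1, pJA, pCJ, pTneA, pTneJ, pTneK⟩ :=
    perm_four_rel A C T hA hCe hT
  have hVset : ((F.map φ : Subgroup _) : Set (Equiv.Perm (Fin 4))) =
      {1, c[(0 : Fin 4), 1] * c[(2 : Fin 4), 3], c[(0 : Fin 4), 2] * c[(1 : Fin 4), 3],
        c[(0 : Fin 4), 3] * c[(1 : Fin 4), 2]} := by
    refine Set.eq_of_subset_of_ncard_le (fun x hx => by simpa using hV x hx) ?_ (Set.toFinite _)
    rw [← Nat.card_coe_set_eq (s := ((F.map φ : Subgroup _) : Set (Equiv.Perm (Fin 4))))]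
    refine le_trans ?_ hmap4.ge
    rw [Set.ncard_eq_toFinset_card']
    decide +kernel
  have hmemV : ∀ x : Q, x ∈ F ↔ φ x ∈ F.map φ := by
    intro x
    constructor
    · exact fun h => ⟨x, h, rfl⟩
    · rintro ⟨y, hy, hyx⟩
      have : φ (y⁻¹ * x) = 1 := by rw [map_mul, map_inv, hyx, inv_mul_cancel]
      have := mul_mem hy ((hker _).mp this).1
      rwa [mul_inv_cancel_left] at this
  -- the kernel is central
  have hkc : ∀ k : Q, φ k = 1 → ∀ x : Q, k * x = x * k := by
    intro k hk x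
    have h1 : φ (x * k * x⁻¹) = 1 := by rw [map_mul, map_mul, hk, mul_one, ← map_mul, mul_inv_cancel, map_one]
    by_cases hk1 : k = 1
    · simp [hk1]
    have h2 : x * k * x⁻¹ = k := by
      by_contra hne
      have : ({1, k, x * k * x⁻¹} : Set Q) ⊆ φ.ker := by
        rintro y (rfl | rfl | rfl)
        exacts [φ.ker.one_mem, hk, h1]
      have h3 := Set.ncard_le_ncard this (Set.toFinite _)
      rw [← Nat.card_coe_set_eq (s := (φ.ker : Set Q))] at h3
      have h4 : ({1, k, x * k * x⁻¹} : Set Q).ncard = 3 := by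
        rw [Set.ncard_eq_three]
        refine ⟨1, k, x * k * x⁻¹, fun h => hk1 h.symm, ?_, fun h => hne h.symm, rfl⟩
        intro h; apply hk1
        exact conj_eq_one_iff.mp h.symm
      simp only [SetLike.coe_sort_coe, hZ] at h3
      omega
    exact (mul_inv_eq_iff_eq_mul.mp h2).symm
  -- choose an element of order three over `C`
  obtain ⟨c₀, hc₀⟩ := hsur C
  obtain ⟨c, hc, hc3⟩ : ∃ c, φ c = C ∧ c ^ 3 = 1 := by
    refine ⟨c₀ ^ 4, by rw [map_pow, hc₀, pow_succ, pC3, one_mul], ?_⟩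
    have : φ (c₀ ^ 3) = 1 := by rw [map_pow, hc₀, pC3]
    have h := ((hker _).mp this).2
    calc (c₀ ^ 4) ^ 3 = (c₀ ^ 3 * c₀ ^ 3) * (c₀ ^ 3 * c₀ ^ 3) := by group
      _ = 1 := by rw [h, one_mul]
  have hrel : ∀ t : Q, φ t = T → t * t = 1 → ∃ i : Q, Rel i c t ∧ i ∈ F ∧ φ i = A := by
    intro t ht htt
    have hAV : A ∈ F.map φ := by
      rw [← SetLike.mem_coe, hVset, hA]; simp
    obtain ⟨i₀, hi₀, hiA₀⟩ := hAV
    have sqne : ∀ x, φ x ≠ 1 → ∀ hx : x ∈ F, e ⟨x, hx⟩ * e ⟨x, hx⟩ ≠ 1 := by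
      intro x hx hxF h
      apply hx
      rw [hker]
      rw [← emul _ _ hxF hxF, ← eone, pull] at h
      exact ⟨hxF, h⟩
    have hbase : ∀ i ∈ F, φ i = A → i ^ 4 = 1 ∧ c * i * c⁻¹ ∈ F ∧
        (c * i * c⁻¹) * (c * i * c⁻¹) = i * i ∧
        (c * i * c⁻¹) * i * (c * i * c⁻¹)⁻¹ = i⁻¹ := by
      intro i hi hiA
      have hjF : c * i * c⁻¹ ∈ F := Subgroup.Normal.conj_mem inferInstance i hi c
      have hφj : φ (c * i * c⁻¹) = C * A * C⁻¹ := by rw [map_mul, map_mul, map_inv, hc, hiA]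
      have hne1 : φ i ≠ 1 := by rw [hiA]; exact pA
      have hne2 : φ (c * i * c⁻¹) ≠ 1 := by rw [hφj]; exact pJ1
      have h := qinv (e ⟨i, hi⟩) (e ⟨_, hjF⟩) (sqne i hne1 hi) (sqne _ hne2 hjF)
        (fun h => pJA (by rw [← hφj, (pull _ _ hjF hi).mp h, hiA]))
        (fun h => pJA (by
          rw [← einv _ hi, pull] at h
          rw [← hφj, h, map_inv, hiA]
          exact inv_eq_of_mul_eq_one_right pA2))
      refine ⟨?_, hjF, ?_, ?_⟩
      · have h4 := q4 _ (sqne i hne1 hi)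
        rw [← map_pow, ← map_one e, e.injective.eq_iff] at h4
        exact congrArg Subtype.val h4
      · rw [← pull _ _ (mul_mem hjF hjF) (mul_mem hi hi), emul _ _ hjF hjF, emul _ _ hi hi]
        exact h.1
      · rw [← pull _ _ (mul_mem (mul_mem hjF hi) (inv_mem hjF)) (inv_mem hi),
          emul _ _ (mul_mem hjF hi) (inv_mem hjF), emul _ _ hjF hi, einv _ hjF, einv _ hi]
        exact h.2
    -- orientation
    obtain ⟨i, hi, hiA, hcj⟩ : ∃ i ∈ F, φ i = A ∧
        c * (c * i * c⁻¹) * c⁻¹ = i * (c * i * c⁻¹) := by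
      obtain ⟨h4, hjF, hj2, hji⟩ := hbase i₀ hi₀ hiA₀
      obtain ⟨j, hj⟩ : ∃ j, j = c * i₀ * c⁻¹ := ⟨_, rfl⟩
      rw [← hj] at hjF hj2 hji
      have hk : φ ((i₀ * j)⁻¹ * (c * j * c⁻¹)) = 1 := by
        rw [hj]; simp only [map_mul, map_inv, hc, hiA₀]
        rw [pCJ, inv_mul_cancel]
      obtain ⟨k, hk', hkk⟩ : ∃ k, c * j * c⁻¹ = i₀ * j * k ∧ φ k = 1 :=
        ⟨_, (mul_inv_cancel_left _ _).symm, hk⟩
      by_cases hk1 : k = 1
      · exact ⟨i₀, hi₀, hiA₀, by rw [← hj, hk', hk1, mul_one]⟩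
      · -- then replace `i₀` by its inverse
        have hz : k = i₀ * i₀ := by
          by_contra hne
          have hsub : ({1, k, i₀ * i₀} : Set Q) ⊆ φ.ker := by
            rintro y (rfl | rfl | rfl)
            exacts [φ.ker.one_mem, hkk, (by
              rw [SetLike.mem_coe, MonoidHom.mem_ker, map_mul, hiA₀, pA2])]
          have h3 := Set.ncard_le_ncard hsub (Set.toFinite _)
          rw [← Nat.card_coe_set_eq (s := (φ.ker : Set Q))] at h3
          have h4' : ({1, k, i₀ * i₀} : Set Q).ncard = 3 := by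
            rw [Set.ncard_eq_three]
            refine ⟨1, k, i₀ * i₀, fun h => hk1 h.symm, ?_, hne, rfl⟩
            intro h
            apply pA
            rw [← hiA₀]
            exact (hker _).mpr ⟨hi₀, h.symm⟩
          simp only [SetLike.coe_sort_coe, hZ] at h3
          omega
        refine ⟨i₀⁻¹, inv_mem hi₀, by rw [map_inv, hiA₀]; exact inv_eq_of_mul_eq_one_right pA2, ?_⟩
        have hj' : c * i₀⁻¹ * c⁻¹ = j⁻¹ := by rw [hj]; group
        rw [hj']
        have h1 : c * j⁻¹ * c⁻¹ = (c * j * c⁻¹)⁻¹ := by group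
        rw [h1, hk', hz]
        -- `k⁻¹ j⁻¹ i⁻¹ = i⁻¹ j⁻¹`
        have e1 : j⁻¹ * i₀⁻¹ = i₀ * j⁻¹ := by
          calc j⁻¹ * i₀⁻¹ = j⁻¹ * (j * i₀ * j⁻¹) := by rw [hji]
            _ = i₀ * j⁻¹ := by group
        calc (i₀ * j * (i₀ * i₀))⁻¹ = i₀⁻¹ * i₀⁻¹ * (j⁻¹ * i₀⁻¹) := by group
          _ = i₀⁻¹ * j⁻¹ := by rw [e1]; group
    obtain ⟨h4, hjF, hj2, hji⟩ := hbase i hi hiA
    have htc : t * c * t⁻¹ = c⁻¹ := by
      have hk : φ (t * c * t⁻¹ * c) = 1 := by
        simp only [map_mul, map_inv, ht, hc, pTC, inv_mul_cancel]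
      have hsq := ((hker _).mp hk).2
      have hcm := hkc _ hk c
      have hcube : (t * c * t⁻¹) ^ 3 = 1 := by rw [conj_pow, hc3]; group
      obtain ⟨k, hk'⟩ : ∃ k, k = t * c * t⁻¹ * c := ⟨_, rfl⟩
      rw [← hk'] at hsq hcm
      have he : t * c * t⁻¹ = k * c⁻¹ := by rw [hk']; group
      rw [he] at hcube ⊢
      have hcm' : Commute k c⁻¹ := (Commute.inv_right hcm)
      rw [hcm'.mul_pow, inv_pow, hc3, inv_one, mul_one, pow_succ, pow_two, hsq, one_mul] at hcube
      rw [hcube, one_mul]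
    have hti : t * i * t⁻¹ = i⁻¹ := by
      have hk : φ (t * i * t⁻¹ * i) = 1 := by
        simp only [map_mul, map_inv, ht, hiA, pTA, pA2]
      by_contra hne
      have hfix : t * i * t⁻¹ = i := by
        obtain ⟨k, hk'⟩ : ∃ k, k = t * i * t⁻¹ * i := ⟨_, rfl⟩
        rw [← hk'] at hk
        have hk1 : k ≠ 1 := fun h => hne (eq_inv_of_mul_eq_one_left (hk' ▸ h))
        have hi2 : φ (i * i) = 1 := by rw [map_mul, hiA, pA2]
        have hi21 : i * i ≠ 1 := fun h => pA (by rw [← hiA]; exact (hker _).mpr ⟨hi, h⟩)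
        by_contra hne2
        have hsub : ({1, k, i * i} : Set Q) ⊆ φ.ker := by
          rintro y (rfl | rfl | rfl)
          exacts [φ.ker.one_mem, hk, hi2]
        have h3 := Set.ncard_le_ncard hsub (Set.toFinite _)
        rw [← Nat.card_coe_set_eq (s := (φ.ker : Set Q))] at h3
        have h4' : ({1, k, i * i} : Set Q).ncard = 3 := by
          rw [Set.ncard_eq_three]
          exact ⟨1, k, i * i, fun h => hk1 h.symm, fun h => hi21 h.symm,
            fun h => hne2 (mul_right_cancel (hk' ▸ h)), rfl⟩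
        simp only [SetLike.coe_sort_coe, hZ] at h3
        omega
      obtain ⟨j, hj⟩ : ∃ j, j = c * i * c⁻¹ := ⟨_, rfl⟩
      rw [← hj] at hcj hjF hj2 hji
      have h1 : t * j * t⁻¹ = i * j := by
        calc t * j * t⁻¹ = (t * c * t⁻¹) * (t * i * t⁻¹) * (t * c * t⁻¹)⁻¹ := by rw [hj]; group
          _ = c⁻¹ * i * c := by rw [htc, hfix, inv_inv]
          _ = c⁻¹ * (c * (i * j) * c⁻¹) * c := by
              have : c * (i * j) * c⁻¹ = i := by
                calc c * (i * j) * c⁻¹ = (c * i * c⁻¹) * (c * j * c⁻¹) := by group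
                  _ = j * i * j⁻¹ * (j * j) := by rw [hcj, ← hj]; group
                  _ = i := by rw [hji, hj2]; group
              rw [this]
          _ = i * j := by group
      have h2 : t * (i * j) * t⁻¹ = i * (i * j) := by
        calc t * (i * j) * t⁻¹ = (t * i * t⁻¹) * (t * j * t⁻¹) := by group
          _ = _ := by rw [hfix, h1]
      have ht' : t⁻¹ = t := inv_eq_of_mul_eq_one_right htt
      rw [← h1] at h2
      have h3 : t * (t * j * t⁻¹) * t⁻¹ = j := by
        calc t * (t * j * t⁻¹) * t⁻¹ = (t * t) * j * (t * t)⁻¹ := by group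
          _ = j := by rw [htt]; group
      rw [h3, h1, ← mul_assoc] at h2
      exact pA (by rw [← hiA]; exact (hker _).mpr ⟨hi, by
        exact mul_eq_right.mp h2.symm⟩)
    exact ⟨i, ⟨h4, hj2, hji, hcj, hc3, htt, htc, hti⟩, hi, hiA⟩
  by_cases hinv : ∀ v : Q, orderOf v = 2 → v ∈ F
  · right
    have hcen : Subgroup.center Q = φ.ker := by
      apply le_antisymm
      · intro x hx
        have hxF : x ∈ F := hC (Subgroup.mem_centralizer_iff.mpr fun y _ =>
          Subgroup.mem_center_iff.mp hx y)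
        rw [MonoidHom.mem_ker, hker]
        refine ⟨hxF, ?_⟩
        rw [← pull _ _ (mul_mem hxF hxF) F.one_mem, emul _ _ hxF hxF, eone]
        apply qcen
        intro y
        obtain ⟨⟨w, hw⟩, rfl⟩ := e.surjective y
        rw [← emul _ _ hxF hw, ← emul _ _ hw hxF, pull]
        exact (Subgroup.mem_center_iff.mp hx w).symm
      · intro x hx
        exact Subgroup.mem_center_iff.mpr fun g => (hkc x hx g).symm
    refine ⟨⟨hQ, ?_, ?_, ?_⟩, hinv⟩
    · rw [hcen, hZ]
    · exact ⟨(QuotientGroup.quotientMulEquivOfEq hcen).trans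
        (QuotientGroup.quotientKerEquivOfSurjective φ hsur)⟩
    · intro P
      have : Fact (Nat.Prime 2) := ⟨Nat.prime_two⟩
      have hP : Nat.card (P : Subgroup Q) = 16 := by
        have hf : (48 : ℕ).factorization 2 = 4 := by
          have h48 : (48 : ℕ) = 2 ^ 4 * 3 := by norm_num
          rw [h48, Nat.factorization_mul (by norm_num) (by norm_num),
            Nat.Prime.factorization_pow Nat.prime_two, Nat.Prime.factorization Nat.prime_three]
          simp
        rw [P.card_eq_multiplicity, hQ, hf]; norm_num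
      have hu : ∀ u v : (P : Subgroup Q), orderOf u = 2 → orderOf v = 2 → u = v := by
        intro u v hu hv
        rw [← Subgroup.orderOf_coe] at hu hv
        have hmem : ∀ w : Q, orderOf w = 2 → φ w = 1 := fun w hw => (hker w).mpr ⟨hinv w hw, by
          rw [← pow_two, ← hw]; exact pow_orderOf_eq_one w⟩
        apply Subtype.ext
        by_contra hne
        have hsub : ({1, (u : Q), (v : Q)} : Set Q) ⊆ φ.ker := by
          rintro y (rfl | rfl | rfl)
          exacts [φ.ker.one_mem, hmem _ hu, hmem _ hv]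
        have h3 := Set.ncard_le_ncard hsub (Set.toFinite _)
        rw [← Nat.card_coe_set_eq (s := (φ.ker : Set Q))] at h3
        have h4' : ({1, (u : Q), (v : Q)} : Set Q).ncard = 3 := by
          rw [Set.ncard_eq_three]
          refine ⟨1, u, v, ?_, ?_, hne, rfl⟩
          · intro h; rw [← h, orderOf_one] at hu; omega
          · intro h; rw [← h, orderOf_one] at hv; omega
        simp only [SetLike.coe_sort_coe, hZ] at h3
        omega
      rcases Cfsg.Agent.Fusion.cyclic_or_quaternion P.isPGroup' hu with hcy | ⟨k, -, ⟨g⟩⟩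
      · exfalso
        have hFP : F ≤ P := by
          have : IsPGroup 2 F := IsPGroup.of_card (n := 3) (by rw [hF8]; norm_num)
          obtain ⟨P', hP'⟩ := this.exists_le_sylow
          obtain ⟨y, hy⟩ := MulAction.exists_smul_eq Q P' P
          rw [← hy, Sylow.coe_subgroup_smul]
          intro w hw
          rw [Subgroup.mem_pointwise_smul_iff_inv_smul_mem]
          refine hP' ?_
          simpa using Subgroup.Normal.conj_mem inferInstance w hw y⁻¹
        have hFc : IsCyclic F := Subgroup.isCyclic_of_le hFP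
        have hQc : IsCyclic (QuaternionGroup 2) := isCyclic_of_surjective e e.surjective
        obtain ⟨g0, hg0⟩ := hQc.exists_generator
        have : ∀ x y : QuaternionGroup 2, x * y = y * x := fun x y => by
          obtain ⟨m, rfl⟩ := hg0 x
          obtain ⟨n, rfl⟩ := hg0 y
          exact ((Commute.refl g0).zpow_zpow m n).eq
        exact absurd this (by decide +kernel)
      · have h := Nat.card_congr g.toEquiv
        rw [hP, Nat.card_eq_fintype_card (α := QuaternionGroup (2 ^ k)), QuaternionGroup.card] at h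
        have : 2 ^ k = 2 ^ 2 := by norm_num; omega
        rw [Nat.pow_right_injective le_rfl this] at g
        exact ⟨g⟩
  · left
    obtain ⟨v, hv, hvF⟩ : ∃ v : Q, orderOf v = 2 ∧ v ∉ F := by simpa using hinv
    have hvv : v * v = 1 := by rw [← pow_two, ← hv, pow_orderOf_eq_one]
    obtain ⟨g, hg⟩ : ∃ g, g * φ v * g⁻¹ = T := by
      have hnot : φ v ∉ ((F.map φ : Subgroup _) : Set (Equiv.Perm (Fin 4))) :=
        fun h => hvF ((hmemV v).mpr h)
      rw [hVset] at hnot
      simp only [Set.mem_insert_iff, Set.mem_singleton_iff, not_or] at hnot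
      rcases pT (φ v) (by rw [← map_mul, hvv, map_one]) with h | h | h | h | h
      exacts [absurd h hnot.1, absurd h hnot.2.1, absurd h hnot.2.2.1, absurd h hnot.2.2.2, hT ▸ h]
    obtain ⟨u, rfl⟩ := hsur g
    obtain ⟨i, hR, hiF, hiA⟩ := hrel (u * v * u⁻¹) (by rw [map_mul, map_mul, map_inv]; exact hg)
      (by calc u * v * u⁻¹ * (u * v * u⁻¹) = u * (v * v) * u⁻¹ := by group
            _ = 1 := by rw [hvv]; group)
    refine mulEquiv_gl hR hQ ?_
    obtain ⟨K, hK⟩ : ∃ K, K = Subgroup.closure ({i, c, u * v * u⁻¹} : Set Q) := ⟨_, rfl⟩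
    rw [← hK]
    have hiK : i ∈ K := hK ▸ Subgroup.subset_closure (by simp)
    have hcK : c ∈ K := hK ▸ Subgroup.subset_closure (by simp)
    have htK : u * v * u⁻¹ ∈ K := hK ▸ Subgroup.subset_closure (by simp)
    have hkerK : φ.ker ≤ K := by
      intro x hx
      by_cases hx1 : x = 1
      · rw [hx1]; exact K.one_mem
      suffices x = i * i by rw [this]; exact mul_mem hiK hiK
      by_contra hne
      have hi21 : i * i ≠ 1 := fun h => pA (by rw [← hiA]; exact (hker _).mpr ⟨hiF, h⟩)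
      have hsub : ({1, x, i * i} : Set Q) ⊆ φ.ker := by
        rintro y (rfl | rfl | rfl)
        exacts [φ.ker.one_mem, hx, (by rw [SetLike.mem_coe, MonoidHom.mem_ker, map_mul, hiA, pA2])]
      have h3 := Set.ncard_le_ncard hsub (Set.toFinite _)
      rw [← Nat.card_coe_set_eq (s := (φ.ker : Set Q))] at h3
      have h4' : ({1, x, i * i} : Set Q).ncard = 3 := by
        rw [Set.ncard_eq_three]
        exact ⟨1, x, i * i, fun h => hx1 h.symm, fun h => hi21 h.symm, hne, rfl⟩
      simp only [SetLike.coe_sort_coe, hZ] at h3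
      omega
    have htop : K.map φ = ⊤ := by
      have hsub : ({A, C, T} : Set (Equiv.Perm (Fin 4))) ⊆ K.map φ := by
        rintro y (rfl | rfl | rfl)
        exacts [⟨i, hiK, hiA⟩, ⟨c, hcK, hc⟩, ⟨_, htK, by rw [map_mul, map_mul, map_inv]; exact hg⟩]
      apply Subgroup.eq_top_of_le_card
      have hmem : ∀ p : Fin 4 × Fin 2 × Fin 3 × Fin 2, word A C T p ∈ K.map φ := fun p =>
        (Subgroup.closure_le _).mpr hsub (word_mem_closure A C T p)
      have hall : ∀ y : Equiv.Perm (Fin 4), ∃ p : Fin 4 × Fin 2 × Fin 3 × Fin 2, word A C T p = y := by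
        subst hA hCe hT; decide +kernel
      exact Nat.card_le_card_of_injective (fun y : Equiv.Perm (Fin 4) =>
        (⟨y, by obtain ⟨p, hp⟩ := hall y; exact hp ▸ hmem p⟩ : K.map φ))
        (fun a b h => congrArg Subtype.val h)
    have := congrArg (Subgroup.comap φ) htop
    rwa [Subgroup.comap_map_eq_self hkerK, Subgroup.comap_top] at this

theorem rank_unique {P : Type*} [Group P] [Finite P] (hP : IsPGroup 2 P)
    (h : Cfsg.PRankLE 2 1 P) : ∀ u v : P, orderOf u = 2 → orderOf v = 2 → u = v := by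
  have key : ∀ u v : P, orderOf u = 2 → orderOf v = 2 → u * v = v * u → u = v := by
    intro u v hu hv huv
    have u2 : u * u = 1 := by rw [← pow_two, ← hu, pow_orderOf_eq_one]
    have v2 : v * v = 1 := by rw [← pow_two, ← hv, pow_orderOf_eq_one]
    by_contra hne
    obtain ⟨A, hA⟩ : ∃ A, A = Subgroup.closure ({u, v} : Set P) := ⟨_, rfl⟩
    have hcomm : ∀ x ∈ ({u, v} : Set P), ∀ y ∈ ({u, v} : Set P), x * y = y * x := by
      rintro x (rfl | rfl) y (rfl | rfl)
      exacts [rfl, huv, huv.symm, rfl]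
    have : IsMulCommutative A := hA ▸ Subgroup.isMulCommutative_closure hcomm
    have hsq : ∀ x ∈ A, x ^ 2 = 1 := by
      intro x hx
      have hx' : x ∈ Subgroup.closure ({u, v} : Set P) := hA ▸ hx
      induction hx' using Subgroup.closure_induction with
      | mem y hy => rcases hy with rfl | rfl <;> rw [pow_two]; exacts [u2, v2]
      | one => simp
      | mul y z hy hz ihy ihz =>
        have hc : Commute y z := by
          have := congrArg Subtype.val
            (mul_comm' (⟨y, hA ▸ hy⟩ : A) ⟨z, hA ▸ hz⟩)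
          exact this
        rw [hc.mul_pow, ihy (hA ▸ hy), ihz (hA ▸ hz), one_mul]
      | inv y hy ihy => rw [inv_pow, ihy (hA ▸ hy), inv_one]
    have h2 := h A this hsq
    have hsub : ({1, u, v} : Set P) ⊆ A := by
      rintro y (rfl | rfl | rfl)
      exacts [A.one_mem, hA ▸ Subgroup.subset_closure (by simp), hA ▸ Subgroup.subset_closure (by simp)]
    have h3 := Set.ncard_le_ncard hsub (Set.toFinite _)
    rw [← Nat.card_coe_set_eq (s := (A : Set P))] at h3
    have h4 : ({1, u, v} : Set P).ncard = 3 := by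
      rw [Set.ncard_eq_three]
      refine ⟨1, u, v, ?_, ?_, hne, rfl⟩
      · intro e; rw [← e, orderOf_one] at hu; omega
      · intro e; rw [← e, orderOf_one] at hv; omega
    simp only [SetLike.coe_sort_coe] at h3
    omega
  intro u v hu hv
  have : Nontrivial P := ⟨⟨u, 1, by intro e; rw [e, orderOf_one] at hu; omega⟩⟩
  have : Nontrivial (Subgroup.center P) := hP.center_nontrivial
  obtain ⟨n, hn⟩ := IsPGroup.iff_card.mp (hP.to_subgroup (Subgroup.center P))
  have hdvd : 2 ∣ Nat.card (Subgroup.center P) := by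
    rcases n with _ | n
    · have := Finite.one_lt_card (α := Subgroup.center P); rw [hn] at this; simp at this
    · rw [hn, pow_succ]; exact Dvd.intro_left _ rfl
  obtain ⟨z, hz⟩ := exists_prime_orderOf_dvd_card' 2 hdvd
  have hz' : orderOf (z : P) = 2 := by rw [Subgroup.orderOf_coe, hz]
  have hc : ∀ w : P, w * z = z * w := fun w => Subgroup.mem_center_iff.mp z.2 w
  rw [key u z hu hz' (hc u), key v z hv hz' (hc v)]

theorem quotient_rank {G : Type*} [Group G] [Finite G] (H : Subgroup G) [H.Normal]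
    (hH : Odd (Nat.card H))
    (hI : ∀ S T : Sylow 2 G, S ≠ T → Cfsg.PRankLE 2 1 ↥((S : Subgroup G) ⊓ (T : Subgroup G))) :
    ∀ S T : Sylow 2 (G ⧸ H), S ≠ T →
      Cfsg.PRankLE 2 1 ↥((S : Subgroup (G ⧸ H)) ⊓ (T : Subgroup (G ⧸ H))) := by
  intro S T hST
  have : Fact (Nat.Prime 2) := ⟨Nat.prime_two⟩
  set π := QuotientGroup.mk' H
  have hπ : Function.Surjective π := QuotientGroup.mk'_surjective H
  have hlift : ∀ A : Sylow 2 (G ⧸ H), ∃ S' : Sylow 2 G, (S' : Subgroup G).map π = A := by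
    intro A
    obtain ⟨S₀⟩ : Nonempty (Sylow 2 G) := inferInstance
    obtain ⟨x, hx⟩ := MulAction.exists_smul_eq (G ⧸ H) (S₀.mapSurjective hπ) A
    obtain ⟨g, rfl⟩ := hπ x
    refine ⟨g • S₀, ?_⟩
    rw [← hx]
    ext y
    simp only [Sylow.coe_subgroup_smul, Sylow.coe_mapSurjective, Subgroup.mem_map,
      Subgroup.mem_smul_pointwise_iff_exists, MulAut.smul_def, MulAut.conj_apply]
    constructor
    · rintro ⟨_, ⟨s, hs, rfl⟩, rfl⟩
      exact ⟨π s, ⟨s, hs, rfl⟩, by simp⟩
    · rintro ⟨_, ⟨s, hs, rfl⟩, rfl⟩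
      exact ⟨g * s * g⁻¹, ⟨s, hs, rfl⟩, by simp⟩
  obtain ⟨S', hS'⟩ := hlift S
  obtain ⟨T', hT'⟩ := hlift T
  obtain ⟨U, hU⟩ : ∃ U, U = (T : Subgroup (G ⧸ H)).comap π := ⟨_, rfl⟩
  have hTU : (T' : Subgroup G) ≤ U := hU ▸ Subgroup.map_le_iff_le_comap.mp hT'.le
  obtain ⟨W, hW⟩ := ((S'.isPGroup'.to_le inf_le_left).of_equiv
    (Subgroup.subgroupOfEquivOfLe (inf_le_right : (S' : Subgroup G) ⊓ U ≤ U)).symm).exists_le_sylow
  obtain ⟨u, hu⟩ := MulAction.exists_smul_eq U (T'.subtype hTU) W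
  obtain ⟨T'', hT''⟩ : ∃ T'' : Sylow 2 G, T'' = (u : G) • T' := ⟨_, rfl⟩
  have hRT : (S' : Subgroup G) ⊓ U ≤ T'' := by
    intro x hx
    have h1 : (⟨x, hx.2⟩ : U) ∈ (W : Subgroup U) := hW hx
    rw [← hu, Sylow.coe_subgroup_smul, Subgroup.mem_smul_pointwise_iff_exists] at h1
    obtain ⟨y, hy, hyx⟩ := h1
    rw [hT'', Sylow.coe_subgroup_smul, Subgroup.mem_smul_pointwise_iff_exists]
    exact ⟨y, hy, congrArg Subtype.val hyx⟩
  have hne : S' ≠ T'' := by
    intro h
    apply hST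
    apply Sylow.ext
    have hle : (T'' : Subgroup G).map π ≤ T := by
      rintro _ ⟨x, hx, rfl⟩
      rw [hT'', SetLike.mem_coe, Sylow.coe_subgroup_smul, Subgroup.mem_smul_pointwise_iff_exists] at hx
      obtain ⟨y, hy, rfl⟩ := hx
      simp only [MulAut.smul_def, MulAut.conj_apply, map_mul, map_inv]
      have hu' : π (u : G) ∈ (T : Subgroup (G ⧸ H)) := hU.le u.2
      exact mul_mem (mul_mem hu' (hT'.le ⟨y, hy, rfl⟩)) (inv_mem hu')
    rw [← h, hS'] at hle
    exact (S.is_maximal' T.isPGroup' hle).symm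
  intro A hAc hA2
  obtain ⟨I, hI'⟩ : ∃ I, I = (S' : Subgroup G) ⊓ T'' := ⟨_, rfl⟩
  let f : I →* G ⧸ H := π.comp I.subtype
  have hinj : ∀ x : I, f x = 1 → x = 1 := by
    intro x hx
    have hxH : (x : G) ∈ H := (QuotientGroup.eq_one_iff _).mp hx
    obtain ⟨n, hn⟩ := (S'.isPGroup'.to_le (hI' ▸ inf_le_left : I ≤ S')) x
    have h1 : orderOf (x : G) ∣ 2 ^ n := by
      rw [Subgroup.orderOf_coe]; exact orderOf_dvd_of_pow_eq_one hn
    have h2 : orderOf (x : G) ∣ Nat.card H := by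
      have h := orderOf_dvd_natCard (⟨(x : G), hxH⟩ : H)
      rwa [Subgroup.orderOf_mk] at h
    have h3 : orderOf (x : G) = 1 := Nat.eq_one_of_dvd_coprimes
      (Nat.Coprime.pow_left n (Nat.coprime_two_left.mpr hH)) h1 h2
    exact Subtype.ext (orderOf_eq_one_iff.mp h3)
  have hinj' : Function.Injective f := (injective_iff_map_eq_one f).mpr hinj
  obtain ⟨A', hA'⟩ : ∃ A' : Subgroup (G ⧸ H),
      A' = A.map ((S : Subgroup (G ⧸ H)) ⊓ (T : Subgroup (G ⧸ H))).subtype := ⟨_, rfl⟩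
  have hAr : A' ≤ f.range := by
    rintro _ hx
    rw [hA'] at hx
    obtain ⟨⟨y, hy⟩, -, rfl⟩ := hx
    obtain ⟨s, hs, hsy⟩ : y ∈ (S' : Subgroup G).map π := hS'.symm ▸ hy.1
    refine ⟨⟨s, hI' ▸ ⟨hs, hRT ⟨hs, hU ▸ ?_⟩⟩⟩, hsy⟩
    show π s ∈ (T : Subgroup (G ⧸ H))
    rw [hsy]; exact hy.2
  have hcard : Nat.card (A'.comap f) = Nat.card A := by
    have : (A'.comap f).map f = A' := Subgroup.map_comap_eq_self hAr
    have h := Nat.card_congr (Subgroup.equivMapOfInjective (A'.comap f) f hinj').toEquiv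
    rw [this, hA'] at h
    rw [hA']
    exact h.trans (Nat.card_congr (Subgroup.equivMapOfInjective A _
      (Subgroup.subtype_injective _)).toEquiv).symm
  have hprop : ∀ x ∈ A'.comap f, ∀ y ∈ A'.comap f, x * y = y * x ∧ x ^ 2 = 1 := by
    intro x hx y hy
    rw [Subgroup.mem_comap, hA'] at hx hy
    obtain ⟨a, ha, hax⟩ := hx
    obtain ⟨b, hb, hby⟩ := hy
    constructor
    · apply hinj'
      have := congrArg Subtype.val (mul_comm' (⟨a, ha⟩ : A) ⟨b, hb⟩)
      simp only [Subgroup.coe_mul] at this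
      rw [map_mul, map_mul, ← hax, ← hby, ← map_mul, ← map_mul]
      exact congrArg _ this
    · apply hinj'
      rw [map_pow, map_one, ← hax, ← map_pow, hA2 a ha, map_one]
  have key := hI' ▸ hI S' T'' hne
  have := key (A'.comap f) ⟨⟨fun x y => Subtype.ext (hprop x.1 x.2 y.1 y.2).1⟩⟩
    (fun x hx => (hprop x hx x hx).2)
  rwa [hcard] at this

end Cfsg.Agent.CyclicInter

namespace Cfsg.Agent.CyclicInter

open scoped Pointwise

theorem rankOne_solvable {G : Type*} [Group G] [Finite G] (hs : Group.IsSolvable G)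
    (hI : ∀ S T : Sylow 2 G, S ≠ T → Cfsg.PRankLE 2 1 ↥((S : Subgroup G) ⊓ (T : Subgroup G))) :
    (∃ P : Sylow 2 (G ⧸ Cfsg.oddCore G), (P : Subgroup (G ⧸ Cfsg.oddCore G)).Normal) ∨
    Nonempty ((G ⧸ Cfsg.oddCore G) ≃* GL (Fin 2) (ZMod 3)) ∨
    (Nat.card (G ⧸ Cfsg.oddCore G) = 48 ∧ Nat.card ↥(Subgroup.center (G ⧸ Cfsg.oddCore G)) = 2 ∧
      Nonempty ((G ⧸ Cfsg.oddCore G) ⧸ Subgroup.center (G ⧸ Cfsg.oddCore G) ≃* Equiv.Perm (Fin 4)) ∧
      ∀ P : Sylow 2 (G ⧸ Cfsg.oddCore G),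
        Nonempty (↥(P : Subgroup (G ⧸ Cfsg.oddCore G)) ≃* QuaternionGroup 4)) := by
  have : Fact (Nat.Prime 2) := ⟨Nat.prime_two⟩
  have hodd : Odd (Nat.card (Cfsg.oddCore G)) := by
    exact Nat.coprime_two_left.mp (Nat.Coprime.symm (Core.coprime_card_pPrimeCore (G := G) (p := 2)))
  have hI' := quotient_rank (Cfsg.oddCore G) hodd hI
  have hO : pPrimeCore 2 (G ⧸ Cfsg.oddCore G) = ⊥ := Core.pPrimeCore_quotient_eq_bot
  set Q := G ⧸ Cfsg.oddCore G
  by_cases hn : ∃ P : Sylow 2 Q, (P : Subgroup Q).Normal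
  · exact Or.inl hn
  right
  obtain ⟨P⟩ : Nonempty (Sylow 2 Q) := inferInstance
  obtain ⟨g, hg⟩ : ∃ g : Q, g • P ≠ P := by
    by_contra hc
    simp only [not_exists, not_not] at hc
    apply hn
    refine ⟨P, ?_⟩
    rw [← Subgroup.normalizer_eq_top_iff]
    exact eq_top_iff.mpr fun g _ => Sylow.smul_eq_iff_mem_normalizer.mp (hc g)
  have hnpg : ∀ h : IsPGroup 2 Q, False := fun h => hn ⟨P, by
    have hP2 : (P : Subgroup Q) = ⊤ := (P.is_maximal' (h.to_subgroup ⊤) le_top).symm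
    rw [hP2]; infer_instance⟩
  have hFP : ∀ A : Sylow 2 Q, fittingSubgroup Q ≤ A := by
    intro A
    rw [Core.fittingSubgroup_eq_iSup_pCore]
    refine iSup_le fun q => ?_
    by_cases hq : (q : ℕ) = 2
    · rw [hq]; exact Core.pCore_le_sylow A
    · have : Fact (Nat.Prime q) := ⟨q.2⟩
      exact (Core.pCore_le_pPrimeCore (q := (q : ℕ)) (p := 2) hq).trans (hO ▸ bot_le)
  have hF2 : IsPGroup 2 (fittingSubgroup Q) := P.isPGroup'.to_le (hFP P)
  have hFI : fittingSubgroup Q ≤ ((g • P : Sylow 2 Q) : Subgroup Q) ⊓ P := le_inf (hFP _) (hFP P)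
  have hC : Subgroup.centralizer (fittingSubgroup Q : Set Q) ≤ fittingSubgroup Q :=
    Core.centralizer_fittingSubgroup_le
  have huniq : ∀ u v : fittingSubgroup Q, orderOf u = 2 → orderOf v = 2 → u = v := by
    have h := rank_unique (P.isPGroup'.to_le (inf_le_right : ((g • P : Sylow 2 Q) : Subgroup Q) ⊓ P ≤ P))
      (hI' _ _ hg)
    intro u v hu hv
    have := h ⟨u, hFI u.2⟩ ⟨v, hFI v.2⟩
      (by rw [Subgroup.orderOf_mk, Subgroup.orderOf_coe, hu])
      (by rw [Subgroup.orderOf_mk, Subgroup.orderOf_coe, hv])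
    exact Subtype.ext (congrArg Subtype.val this :)
  let φ : Q →* MulAut (fittingSubgroup Q) := MulAut.conjNormal
  have hker : φ.ker ≤ fittingSubgroup Q := by
    refine le_trans ?_ hC
    intro x hx
    rw [Subgroup.mem_centralizer_iff]
    intro y hy
    have : φ x ⟨y, hy⟩ = ⟨y, hy⟩ := by rw [MonoidHom.mem_ker.mp hx]; rfl
    have h2 : x * y * x⁻¹ = y := congrArg Subtype.val this
    exact (mul_inv_eq_iff_eq_mul.mp h2).symm
  have auttwo : ¬ IsPGroup 2 (MulAut (fittingSubgroup Q)) := fun hA => hnpg (by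
    intro x
    obtain ⟨a, ha⟩ := hA (φ x)
    obtain ⟨b, hb⟩ := hF2 ⟨x ^ 2 ^ a, hker (MonoidHom.mem_ker.mpr (by rw [map_pow, ha]))⟩
    exact ⟨a + b, by rw [pow_add, pow_mul]; exact congrArg Subtype.val hb⟩)
  rcases Cfsg.Agent.Fusion.cyclic_or_quaternion hF2 huniq with hcyc | ⟨k, hk1, ⟨e⟩⟩
  · exfalso
    apply auttwo
    obtain ⟨k, hk⟩ := IsPGroup.iff_card.mp hF2
    rcases k with _ | k
    · refine IsPGroup.of_card (n := 0) ?_
      rw [IsCyclic.card_mulAut, hk]; rfl
    · refine IsPGroup.of_card (n := k) ?_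
      rw [IsCyclic.card_mulAut, hk, Nat.totient_prime_pow_succ Nat.prime_two]
      simp
  by_cases hk2 : 2 ≤ k
  · exact absurd ((quat_aut_two_group k hk2).of_equiv (MulAut.congr e).symm) auttwo
  obtain rfl : k = 1 := by omega
  have e2 : fittingSubgroup Q ≃* QuaternionGroup 2 := e
  -- the order is 48
  have hQ : Nat.card Q = 48 := by
    obtain ⟨φ4⟩ := Cfsg.Agent.S3742.result
    let ψ : Q →* Equiv.Perm (Fin 4) := (φ4.toMonoidHom.comp (MulAut.congr e2).toMonoidHom).comp φ
    have hψ : ψ.ker = φ.ker := by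
      ext x
      exact map_eq_one_iff ((MulAut.congr e2).trans φ4) (MulEquiv.injective _)
    have h1 := Subgroup.card_eq_card_quotient_mul_card_subgroup ψ.ker
    rw [Nat.card_congr (QuotientGroup.quotientKerEquivRange ψ).toEquiv] at h1
    have h2 : Nat.card ψ.range ∣ 24 := by
      have := Subgroup.card_subgroup_dvd_card ψ.range
      rwa [Nat.card_perm, Nat.card_fin] at this
    have h3 : Nat.card ψ.ker ∣ 2 := by
      rw [hψ]
      obtain ⟨n, hn⟩ := IsPGroup.iff_card.mp (hF2.to_le hker)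
      have hsq : ∀ x ∈ φ.ker, x * x = 1 := by
        intro x hx
        have hc : ∀ y : fittingSubgroup Q,
            (⟨x, hker hx⟩ : fittingSubgroup Q) * y = y * ⟨x, hker hx⟩ := by
          intro y
          have : φ x y = y := by rw [MonoidHom.mem_ker.mp hx]; rfl
          have h2 : x * y * x⁻¹ = y := congrArg Subtype.val this
          exact Subtype.ext (mul_inv_eq_iff_eq_mul.mp h2)
        have h := quat_two_facts.2.2.2.1 (e2 ⟨x, hker hx⟩) (fun y => by
          obtain ⟨w, rfl⟩ := e2.surjective y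
          rw [← map_mul, ← map_mul, hc w])
        rw [← map_mul, ← map_one e2, e2.injective.eq_iff] at h
        exact congrArg Subtype.val h
      have hle : Nat.card φ.ker ≤ 2 := by
        let f : φ.ker → {y : QuaternionGroup 2 // y * y = 1} := fun x => ⟨e2 ⟨x, hker x.2⟩, by
          rw [← map_mul, ← map_one e2]; congr 1; exact Subtype.ext (hsq x x.2)⟩
        have := Nat.card_le_card_of_injective f (fun a b h => by
          have := e2.injective (congrArg Subtype.val h)
          exact Subtype.ext (congrArg Subtype.val this :))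
        rwa [Nat.card_eq_fintype_card (α := {y : QuaternionGroup 2 // y * y = 1}),
          Fintype.card_subtype, quat_two_facts.2.2.2.2] at this
      rcases n with _ | _ | n
      · rw [hn]; norm_num
      · rw [hn]; norm_num
      · rw [hn, pow_succ, pow_succ] at hle
        have : 1 ≤ 2 ^ n := Nat.one_le_two_pow
        omega
    have hdvd : Nat.card Q ∣ 48 := by
      rw [h1]; exact Nat.mul_dvd_mul h2 h3
    have hF8 : Nat.card (fittingSubgroup Q) = 8 := by
      rw [Nat.card_congr e2.toEquiv, Nat.card_eq_fintype_card, QuaternionGroup.card]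
    have h8 : 8 ∣ Nat.card Q := hF8 ▸ Subgroup.card_subgroup_dvd_card _
    obtain ⟨m, hm⟩ := h8
    rw [hm] at hdvd ⊢
    have hm6 : m ∣ 6 := (Nat.mul_dvd_mul_iff_left (by norm_num : 0 < 8)).mp (by simpa using hdvd)
    have : m ≤ 6 := Nat.le_of_dvd (by norm_num) hm6
    rcases (show m = 1 ∨ m = 2 ∨ m = 3 ∨ m = 4 ∨ m = 5 ∨ m = 6 ∨ m = 0 by omega) with
      rfl | rfl | rfl | rfl | rfl | rfl | rfl <;> first | omega | (exfalso; revert hm6; decide) | skip
    · exact (hnpg (IsPGroup.of_card (n := 3) (by rw [hm]; norm_num))).elim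
    · exact (hnpg (IsPGroup.of_card (n := 4) (by rw [hm]; norm_num))).elim
    · exfalso
      apply hn
      refine ⟨P, ?_⟩
      have hf : (24 : ℕ).factorization 2 = 3 := by
        have h : (24 : ℕ) = 2 ^ 3 * 3 := by norm_num
        rw [h, Nat.factorization_mul (by norm_num) (by norm_num),
          Nat.Prime.factorization_pow Nat.prime_two, Nat.Prime.factorization Nat.prime_three]
        simp
      have hP8 : Nat.card (P : Subgroup Q) = 8 := by
        rw [P.card_eq_multiplicity, show Nat.card Q = 24 by rw [hm], hf]; norm_num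
      rw [← Subgroup.eq_of_le_of_card_ge (hFP P) (by rw [hF8, hP8])]
      infer_instance
  rcases quat_core (fittingSubgroup Q) e2 hC hQ with h | h
  · exact Or.inl h
  · exact Or.inr h.1

end Cfsg.Agent.CyclicInter
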